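import Mathlib

/-! The inertia invariants of a finite Galois extension of a DVR are étale at the prime below. -/

set_option autoImplicit false
set_option linter.style.haveILetI false

open scoped Pointwise

universe u

namespace Groth.Agent.H4Inertia

theorem natCard_gal_eq_finSepDegree (k M : Type u) [Field k] [Field M] [Algebra k M] [Normal k M] :
    Nat.card (M ≃ₐ[k] M) = Field.finSepDegree k M := by
  rw [Field.finSepDegree_eq_of_isAlgClosed k M (AlgebraicClosure M),
    Nat.card_congr (Normal.algHomEquivAut k (AlgebraicClosure M) M)]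

attribute [local instance] Ideal.Quotient.field in
/-- Ramification index one and separable residue extension at the invariants of inertia. -/
theorem ramificationIdx_eq_one_and_isSeparable (A B' B G : Type u) [CommRing A] [IsDomain A]
    [CommRing B'] [IsDomain B'] [CommRing B] [IsDomain B] [Algebra A B'] [Algebra A B] [Algebra B' B]
    [IsScalarTower A B' B] [Module.Finite A B] [Module.Flat A B] [Module.Finite A B']
    [Module.Finite B' B] [Module.Flat B' B] [Group G] [Finite G] [MulSemiringAction G B]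
    [IsGaloisGroup G A B] (I : Subgroup G) [IsGaloisGroup I B' B]
    (p : Ideal A) [p.IsMaximal] (q : Ideal B') [q.IsMaximal] (m : Ideal B) [m.IsMaximal]
    [q.LiesOver p] [m.LiesOver q] [m.LiesOver p] (hI : m.inertia G = I) :
    q.ramificationIdx A = 1 ∧ Algebra.IsSeparable (A ⧸ p) (B' ⧸ q) := by
  have : Normal (A ⧸ p) (B ⧸ m) := Ideal.Quotient.normal G p m
  have : Normal (B' ⧸ q) (B ⧸ m) := Ideal.Quotient.normal I q m
  have : Module.Finite (A ⧸ p) (B ⧸ m) := Module.Finite.of_restrictScalars_finite A (A ⧸ p) (B ⧸ m)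
  have : Module.Finite (B' ⧸ q) (B ⧸ m) := Module.Finite.of_restrictScalars_finite B' (B' ⧸ q) (B ⧸ m)
  have : IsScalarTower (A ⧸ p) (B' ⧸ q) (B ⧸ m) := IsScalarTower.of_algebraMap_eq fun x => by
    obtain ⟨a, rfl⟩ := Ideal.Quotient.mk_surjective x
    simp [← IsScalarTower.algebraMap_apply]
  have : Module.Finite (A ⧸ p) (B' ⧸ q) := FiniteDimensional.left (A ⧸ p) (B' ⧸ q) (B ⧸ m)
  have hIle : ∀ σ : I, (σ : G) ∈ m.inertia G := fun σ => hI.ge σ.2
  -- the residue extension above the inertia invariants has no automorphisms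
  have haut : Nat.card ((B ⧸ m) ≃ₐ[B' ⧸ q] (B ⧸ m)) = 1 := by
    rw [Nat.card_eq_one_iff_unique]
    refine ⟨⟨fun f f' => ?_⟩, ⟨1⟩⟩
    suffices h : ∀ f : (B ⧸ m) ≃ₐ[B' ⧸ q] (B ⧸ m), f = 1 from (h f).trans (h f').symm
    intro f
    obtain ⟨σ, rfl⟩ := Ideal.Quotient.stabilizerHom_surjective I q m f
    refine AlgEquiv.ext fun x => ?_
    obtain ⟨b, rfl⟩ := Ideal.Quotient.mk_surjective x
    show Ideal.Quotient.mk m (((σ : I) : G) • b) = Ideal.Quotient.mk m b
    exact Ideal.Quotient.eq.2 (hIle σ b)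
  have hs : Field.finSepDegree (A ⧸ p) (B ⧸ m) = Field.finSepDegree (A ⧸ p) (B' ⧸ q) := by
    rw [← Field.finSepDegree_mul_finSepDegree_of_isAlgebraic (A ⧸ p) (B' ⧸ q) (B ⧸ m),
      ← natCard_gal_eq_finSepDegree (B' ⧸ q) (B ⧸ m), haut, mul_one]
  -- inertia
  have hone : q.primesOver B = {m} := by
    refine Set.eq_singleton_iff_unique_mem.2 ⟨⟨inferInstance, inferInstance⟩, ?_⟩
    rintro Q ⟨_, _⟩
    obtain ⟨σ, rfl⟩ := Ideal.exists_smul_eq_of_isGaloisGroup q m Q I
    exact Ideal.inertia_le_stabilizer (M := G) m (hIle σ)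
  have hcardI : Nat.card I = m.ramificationIdx B' * m.inertiaDeg B' := by
    have h := Ideal.ncard_primesOver_mul_ramificationIdxIn_mul_inertiaDegIn q B I
    rw [hone, Set.ncard_singleton, one_mul, Ideal.ramificationIdxIn_eq_ramificationIdx q m I,
      Ideal.inertiaDegIn_eq_inertiaDeg q m I] at h
    exact h.symm
  -- the whole group
  have hstab : Nat.card (MulAction.stabilizer G m) =
      Nat.card I * Field.finSepDegree (A ⧸ p) (B ⧸ m) := by
    rw [← natCard_gal_eq_finSepDegree (A ⧸ p) (B ⧸ m),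
      ← Nat.card_congr (Ideal.Quotient.stabilizerQuotientInertiaEquiv G p m).toEquiv, ← hI,
      ← ((m.inertia G).subgroupOf (MulAction.stabilizer G m)).card_mul_index,
      Nat.card_congr (Subgroup.subgroupOfEquivOfLe (Ideal.inertia_le_stabilizer (M := G) m)).toEquiv,
      AddSubgroup.subgroupOf_inertia]
    rfl
  have hD : Nat.card (MulAction.stabilizer G m) = m.ramificationIdx A * m.inertiaDeg A := by
    have h := Ideal.ncard_primesOver_mul_ramificationIdxIn_mul_inertiaDegIn p B G
    rw [Ideal.ramificationIdxIn_eq_ramificationIdx p m G, Ideal.inertiaDegIn_eq_inertiaDeg p m G] at h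
    have h' : (p.primesOver B).ncard * Nat.card (MulAction.stabilizer G m) = Nat.card G := by
      rw [← Algebra.IsInvariant.orbit_eq_primesOver A B G p m]
      simpa using Nat.card_congr (MulAction.orbitProdStabilizerEquivGroup G m)
    have h1 : (p.primesOver B).ncard ≠ 0 := by
      intro h0
      rw [h0, zero_mul] at h'
      exact Nat.card_pos.ne' h'.symm
    exact mul_left_cancel₀ h1 (h'.trans h.symm)
  rw [hstab, hcardI, hs, Ideal.ramificationIdx_tower (R := A) q m,
    Ideal.inertiaDeg_tower (R := A) q m, Ideal.inertiaDeg_eq_of_isMaximal p q] at hD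
  have he2 := Ideal.ramificationIdx_pos m B'
  have hf2 := Ideal.inertiaDeg_pos m B'
  have he1 := Ideal.ramificationIdx_pos q A
  have hf1 : 0 < Module.finrank (A ⧸ p) (B' ⧸ q) := Module.finrank_pos
  have hle := Field.finSepDegree_le_finrank (A ⧸ p) (B' ⧸ q)
  have hkey : Field.finSepDegree (A ⧸ p) (B' ⧸ q) =
      q.ramificationIdx A * Module.finrank (A ⧸ p) (B' ⧸ q) := by
    refine Nat.eq_of_mul_eq_mul_left (Nat.mul_pos he2 hf2) ?_
    rw [hD]; ring
  have he : q.ramificationIdx A = 1 := by nlinarith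
  exact ⟨he, (Field.finSepDegree_eq_finrank_iff (A ⧸ p) (B' ⧸ q)).1 (by rw [hkey, he, one_mul])⟩

/-- A semilocal one-dimensional domain localised at a prime is a localisation at one element. -/
theorem exists_isLocalization_away (S : Type u) [CommRing S] (q : Ideal S) [q.IsPrime]
    (T : Set (Ideal S)) (hT : T.Finite)
    (hcov : ∀ Q : Ideal S, Q.IsPrime → ¬ Q ≤ q → ∃ R ∈ T, R ≤ Q) (hTq : ∀ R ∈ T, ¬ R ≤ q) :
    ∃ a : S, IsLocalization.Away a (Localization.AtPrime q) := by
  classical
  choose! c hc hcq using fun R hR => Set.not_subset.1 (hTq R hR)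
  let a := ∏ R ∈ hT.toFinset, c R
  have haq : a ∉ q := by
    intro ha
    obtain ⟨R, hR, hRq⟩ := (Ideal.IsPrime.prod_mem_iff).1 ha
    exact hcq R (hT.mem_toFinset.1 hR) hRq
  have hdvd : ∀ s ∉ q, ∃ n : ℕ, s ∣ a ^ n := fun s hs => by
    have : a ∈ (Ideal.span {s}).radical := by
      rw [Ideal.radical_eq_sInf, Submodule.mem_sInf]
      rintro Q ⟨hQ, hQp⟩
      obtain ⟨R, hR, hRQ⟩ := hcov Q hQp fun hle => hs (hle (hQ (Ideal.mem_span_singleton_self s)))
      exact Ideal.prod_mem Q (hT.mem_toFinset.2 hR) (hRQ (hc R hR))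
    obtain ⟨n, hn⟩ := this
    exact ⟨n, Ideal.mem_span_singleton.1 hn⟩
  have hmem : ∀ n : ℕ, a ^ n ∈ q.primeCompl := fun n h => haq (Ideal.IsPrime.mem_of_pow_mem ‹_› n h)
  refine ⟨a, ⟨?_, fun z => ?_, fun {x y} h => ?_⟩⟩
  · rintro ⟨_, n, rfl⟩
    exact IsLocalization.map_units (Localization.AtPrime q) (⟨a ^ n, hmem n⟩ : q.primeCompl)
  · obtain ⟨⟨x, s, hs⟩, hz⟩ := IsLocalization.surj q.primeCompl z
    obtain ⟨n, t, ht⟩ := hdvd s hs
    refine ⟨⟨x * t, a ^ n, n, rfl⟩, ?_⟩
    simp only [ht, map_mul, ← mul_assoc, hz]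
  · obtain ⟨⟨s, hs⟩, h'⟩ := IsLocalization.exists_of_eq (M := q.primeCompl) h
    obtain ⟨n, t, ht⟩ := hdvd s hs
    refine ⟨⟨a ^ n, n, rfl⟩, ?_⟩
    simp only [ht]
    rw [mul_comm s t, mul_assoc, mul_assoc]
    exact congrArg (t * ·) h'

attribute [local instance] Ideal.Quotient.field in
/-- A finite flat algebra over a DVR with `e = 1` and separable residue field at `q` is étale there. -/
theorem etale_localization (A B' : Type u) [CommRing A] [IsDomain A] [IsDiscreteValuationRing A]
    [CommRing B'] [IsDedekindDomain B'] [Algebra A B'] [Module.Finite A B'] [Module.Flat A B']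
    [FaithfulSMul A B'] (q : Ideal B') [q.IsMaximal] [q.LiesOver (IsLocalRing.maximalIdeal A)]
    (he : q.ramificationIdx A = 1)
    (hsep : Algebra.IsSeparable (A ⧸ IsLocalRing.maximalIdeal A) (B' ⧸ q)) :
    Algebra.Etale A (Localization.AtPrime q) := by
  let p := IsLocalRing.maximalIdeal A
  let := Localization.AtPrime.algebraOfLiesOver p q
  have hmap : p.map (algebraMap A (Localization.AtPrime q)) = IsLocalRing.maximalIdeal _ := by
    rw [Ideal.ramificationIdx_def, ENat.toNat_eq_iff_eq_natCast, Nat.cast_one, Module.length_eq_one_iff,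
      isSimpleModule_iff_isCoatom, ← Ideal.isMaximal_def, IsLocalRing.isMaximal_iff,
      ← Ideal.over_def q p] at he
    exact he
  have hres : Algebra.IsSeparable p.ResidueField q.ResidueField := by
    let eA := RingEquiv.ofBijective _ (Ideal.bijective_algebraMap_quotient_residueField p)
    let eB := RingEquiv.ofBijective _ (Ideal.bijective_algebraMap_quotient_residueField q)
    refine Algebra.IsSeparable.of_equiv_equiv eA eB ?_
    refine Ideal.Quotient.ringHom_ext (RingHom.ext fun a => ?_)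
    show algebraMap p.ResidueField q.ResidueField (algebraMap (A ⧸ p) p.ResidueField (Ideal.Quotient.mk p a)) =
      algebraMap (B' ⧸ q) q.ResidueField (algebraMap (A ⧸ p) (B' ⧸ q) (Ideal.Quotient.mk p a))
    simp [← IsScalarTower.algebraMap_apply]
  have : Algebra.IsUnramifiedAt A q :=
    (Algebra.isUnramifiedAt_iff_map_eq A p q).2 ⟨hres, hmap⟩
  have : Algebra.FormallyUnramified A (Localization.AtPrime q) := this
  obtain ⟨a, ha⟩ := exists_isLocalization_away B' q (p.primesOver B' \ {q})
    ((IsDedekindDomain.primesOver_finite p B').subset Set.sdiff_subset) (fun Q hQ hQq => by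
      have hQ0 : Q ≠ ⊥ := fun h => hQq (h ▸ bot_le)
      have hQm : Q.IsMaximal := hQ.isMaximal hQ0
      refine ⟨Q, ⟨⟨hQ, ⟨?_⟩⟩, fun h => hQq (le_of_eq h)⟩, le_rfl⟩
      exact (IsLocalRing.eq_maximalIdeal (Ideal.isMaximal_comap_of_isIntegral_of_isMaximal Q)).symm)
    (fun R hR hle => by
      obtain ⟨⟨hRp, hRl⟩, hRq⟩ := hR
      have hR0 : R ≠ ⊥ := Ideal.ne_bot_of_liesOver_of_ne_bot (IsDiscreteValuationRing.not_a_field A) R
      exact hRq ((hRp.isMaximal hR0).eq_of_le (Ideal.IsMaximal.ne_top ‹_›) hle))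
  have : Algebra.FinitePresentation A B' := Algebra.FinitePresentation.of_finiteType.1 inferInstance
  have : Algebra.FinitePresentation B' (Localization.AtPrime q) := IsLocalization.Away.finitePresentation a
  have : Algebra.FinitePresentation A (Localization.AtPrime q) := Algebra.FinitePresentation.trans A B' _
  have : Module.Flat B' (Localization.AtPrime q) := IsLocalization.flat _ q.primeCompl
  have : Module.Flat A (Localization.AtPrime q) := Module.Flat.trans A B' _
  exact Algebra.Etale.of_formallyUnramified_of_flat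

end Groth.Agent.H4Inertia
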